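import Mathlib.RingTheory.DiscreteValuationRing.Basic
import Mathlib.RingTheory.Localization.Away.Basic
import Mathlib.RingTheory.Kaehler.Basic
import Mathlib.RingTheory.RingHom.Etale
import Mathlib.RingTheory.RingHom.QuasiFinite
import Mathlib.Algebra.DualNumber
import Mathlib.Algebra.Polynomial.Derivative
import Mathlib.Algebra.Polynomial.Taylor
import Mathlib.RingTheory.Polynomial.UniqueFactorization
import Mathlib.RingTheory.MvPolynomial.Basic
import Mathlib.RingTheory.LocalRing.ResidueField.Basic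

/-!
# The semistable node `V[x, y]/(xy - ϖ)` and its two branches
-/

set_option autoImplicit false
set_option linter.unusedSectionVars false

noncomputable section

universe u

open TrivSqZeroExt
open scoped DualNumber

namespace Groth.Agent.Lib.Node62

/-- Functoriality of dual numbers. -/
def dmap {R S : Type*} [CommRing R] [CommRing S] (g : R →+* S) : R[ε] →+* S[ε] where
  toFun z := inl (g z.fst) + inr (g z.snd)
  map_one' := by ext <;> simp
  map_zero' := by ext <;> simp
  map_add' a b := by ext <;> simp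
  map_mul' a b := by ext <;> simp [DualNumber.snd_mul] <;> ring

@[simp] theorem fst_dmap {R S : Type*} [CommRing R] [CommRing S] (g : R →+* S) (z : R[ε]) :
    (dmap g z).fst = g z.fst := by simp [dmap]

@[simp] theorem snd_dmap {R S : Type*} [CommRing R] [CommRing S] (g : R →+* S) (z : R[ε]) :
    (dmap g z).snd = g z.snd := by simp [dmap]

/-- Polynomials with vanishing Wronskian in characteristic zero. -/
theorem exists_eq_C_mul {K : Type*} [Field K] [CharZero K] (a w : Polynomial K) (hw : w ≠ 0)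
    (h : Polynomial.derivative a * w = a * Polynomial.derivative w) : ∃ c : K, a = Polynomial.C c * w := by
  by_cases ha : a = 0
  · exact ⟨0, by simp [ha]⟩
  obtain ⟨a', w', g, hrel, rfl, rfl⟩ := UniqueFactorizationMonoid.exists_reduced_factors a ha w
  have hg : g ≠ 0 := fun hg => ha (by simp [hg])
  have h1 : Polynomial.derivative a' * w' = a' * Polynomial.derivative w' := by
    rw [Polynomial.derivative_mul, Polynomial.derivative_mul] at h
    have h2 : g * g * (Polynomial.derivative a' * w' - a' * Polynomial.derivative w') = 0 := by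
      linear_combination h
    simpa [hg, sub_eq_zero] using h2
  have key : ∀ p q : Polynomial K, IsRelPrime q p → q * Polynomial.derivative p = Polynomial.derivative q * p →
      p.natDegree = 0 := by
    intro p q hqp he
    by_contra hd
    have hdvd : p ∣ Polynomial.derivative p :=
      hqp.symm.dvd_of_dvd_mul_left ⟨Polynomial.derivative q, by rw [he, mul_comm]⟩
    exact hd (Polynomial.natDegree_eq_zero_of_derivative_eq_zero
      (Polynomial.eq_zero_of_dvd_of_natDegree_lt hdvd (Polynomial.natDegree_derivative_lt hd)))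
  have hw' : w' ≠ 0 := fun e => hw (by simp [e])
  have e1 := Polynomial.eq_C_of_natDegree_eq_zero (key w' a' hrel h1.symm)
  have e2 := Polynomial.eq_C_of_natDegree_eq_zero
    (key a' w' hrel.symm (by rw [mul_comm w', h1, mul_comm]))
  obtain ⟨w0, rfl⟩ : ∃ w0, w' = Polynomial.C w0 := ⟨_, e1⟩
  obtain ⟨a0, rfl⟩ : ∃ a0, a' = Polynomial.C a0 := ⟨_, e2⟩
  have hw0 : w0 ≠ 0 := fun e => hw' (by rw [e, map_zero])
  refine ⟨a0 / w0, ?_⟩
  rw [mul_left_comm, ← map_mul, div_mul_cancel₀ _ hw0]

variable (V : Type u) [CommRing V] (ϖ : V)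

/-- The equation of the node. -/
abbrev rel : MvPolynomial (Fin 2) V := MvPolynomial.X 0 * MvPolynomial.X 1 - MvPolynomial.C ϖ

/-- The node. -/
abbrev AA : Type u := MvPolynomial (Fin 2) V ⧸ Ideal.span {rel V ϖ}

/-- The coordinates. -/
abbrev co (i : Fin 2) : AA V ϖ := Ideal.Quotient.mk (Ideal.span {rel V ϖ}) (MvPolynomial.X i)

theorem co_mul (i : Fin 2) : co V ϖ i * co V ϖ i.rev = algebraMap V (AA V ϖ) ϖ := by
  have h : co V ϖ 0 * co V ϖ 1 = algebraMap V (AA V ϖ) ϖ := by
    rw [← map_mul]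
    exact Ideal.Quotient.eq.mpr (Ideal.subset_span rfl)
  fin_cases i
  · exact h
  · rw [mul_comm]; exact h

/-- Setting the coordinate `i` to zero. -/
def ev (i : Fin 2) : MvPolynomial (Fin 2) V →ₐ[V] Polynomial V :=
  MvPolynomial.aeval fun l => if l = i then 0 else Polynomial.X

/-- The other coordinate axis. -/
def iot (i : Fin 2) : Polynomial V →ₐ[V] MvPolynomial (Fin 2) V := Polynomial.aeval (MvPolynomial.X i.rev)

theorem sub_iot_ev_mem (i : Fin 2) (p : MvPolynomial (Fin 2) V) :
    p - iot V i (ev V i p) ∈ Ideal.span {MvPolynomial.X i} := by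
  rw [← Ideal.Quotient.eq]
  have h : (Ideal.Quotient.mkₐ V (Ideal.span {MvPolynomial.X i})) =
      (Ideal.Quotient.mkₐ V (Ideal.span {(MvPolynomial.X i : MvPolynomial (Fin 2) V)})).comp ((iot V i).comp (ev V i)) := by
    refine MvPolynomial.algHom_ext fun l => ?_
    by_cases hl : l = i
    · subst hl
      simp [ev, iot]
    · have : l = i.rev := by revert hl; fin_cases i <;> fin_cases l <;> decide
      subst this
      simp [ev, iot, hl]
  exact AlgHom.congr_fun h p

theorem ev_rel (i : Fin 2) : ev V i (rel V ϖ) = -Polynomial.C ϖ := by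
  fin_cases i <;> simp [ev, rel]

theorem co_regular [IsDomain V] (hϖ : ϖ ≠ 0) (i : Fin 2) (a : AA V ϖ) (h : co V ϖ i * a = 0) : a = 0 := by
  obtain ⟨p, rfl⟩ := Ideal.Quotient.mk_surjective a
  rw [← map_mul, Ideal.Quotient.eq_zero_iff_mem, Ideal.mem_span_singleton] at h
  obtain ⟨q, hq⟩ := h
  have h0 := congrArg (ev V i) hq
  rw [map_mul, map_mul, ev_rel, show ev V i (MvPolynomial.X i) = 0 by simp [ev], zero_mul, eq_comm,
    neg_mul, neg_eq_zero, mul_eq_zero] at h0
  have hev : ev V i q = 0 := h0.resolve_left (by simpa using hϖ)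
  have hX := sub_iot_ev_mem V i q
  rw [hev, map_zero, sub_zero, Ideal.mem_span_singleton] at hX
  obtain ⟨q', rfl⟩ := hX
  rw [Ideal.Quotient.eq_zero_iff_mem, Ideal.mem_span_singleton]
  exact ⟨q', mul_left_cancel₀ (MvPolynomial.X_ne_zero i) (by rw [hq]; ring)⟩

variable [IsDomain V] [IsDiscreteValuationRing V]

local notation "kk" => IsLocalRing.ResidueField V

theorem residue_varpi (hϖ : Irreducible ϖ) : IsLocalRing.residue V ϖ = 0 := by
  rw [IsLocalRing.residue_eq_zero_iff, hϖ.maximalIdeal_eq]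
  exact Ideal.subset_span rfl

theorem map_residue_eq_zero (hϖ : Irreducible ϖ) {p : Polynomial V}
    (h : p.map (IsLocalRing.residue V) = 0) : Polynomial.C ϖ ∣ p := by
  rw [Polynomial.C_dvd_iff_dvd_coeff]
  intro m
  have h1 := congrArg (Polynomial.coeff · m) h
  simp only [Polynomial.coeff_map, Polynomial.coeff_zero, IsLocalRing.residue_eq_zero_iff, hϖ.maximalIdeal_eq,
    Ideal.mem_span_singleton] at h1
  exact h1

/-- The branch where the coordinate `i` vanishes. -/
def br (hϖ : Irreducible ϖ) (i : Fin 2) : AA V ϖ →+* Polynomial kk :=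
  Ideal.Quotient.lift _ ((Polynomial.mapRingHom (IsLocalRing.residue V)).comp (ev V i).toRingHom) fun p hp => by
    obtain ⟨q, rfl⟩ := Ideal.mem_span_singleton.mp hp
    show Polynomial.map _ (ev V i (rel V ϖ * q)) = 0
    rw [map_mul, ev_rel, Polynomial.map_mul, Polynomial.map_neg, Polynomial.map_C, residue_varpi V ϖ hϖ]
    simp

theorem br_mk (hϖ : Irreducible ϖ) (i : Fin 2) (p : MvPolynomial (Fin 2) V) :
    br V ϖ hϖ i (Ideal.Quotient.mk _ p) = (ev V i p).map (IsLocalRing.residue V) := rfl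

theorem br_surjective (hϖ : Irreducible ϖ) (i : Fin 2) : Function.Surjective (br V ϖ hϖ i) := by
  intro q
  obtain ⟨p, rfl⟩ := Polynomial.map_surjective (IsLocalRing.residue V) IsLocalRing.residue_surjective q
  refine ⟨Ideal.Quotient.mk _ (iot V i p), ?_⟩
  rw [br_mk]
  congr 1
  have h : (ev V i).comp (iot V i) = AlgHom.id V _ := Polynomial.algHom_ext (by
    have : i.rev ≠ i := by fin_cases i <;> decide
    simp [ev, iot, this])
  exact AlgHom.congr_fun h p

/-- The polynomial `q(x_j)` as an element of the node. -/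
def pol (i : Fin 2) : Polynomial V →+* AA V ϖ := (Ideal.Quotient.mk _).comp (iot V i).toRingHom

theorem exists_decomp (i : Fin 2) (a : AA V ϖ) :
    ∃ p : Polynomial V, ∃ b, a = pol V ϖ i p + co V ϖ i * b ∧
      ∀ hϖ : Irreducible ϖ, br V ϖ hϖ i a = p.map (IsLocalRing.residue V) := by
  obtain ⟨q, rfl⟩ := Ideal.Quotient.mk_surjective a
  obtain ⟨b, hb⟩ := Ideal.mem_span_singleton.mp (sub_iot_ev_mem V i q)
  exact ⟨ev V i q, Ideal.Quotient.mk _ b, by
    rw [show pol V ϖ i (ev V i q) = Ideal.Quotient.mk _ (iot V i (ev V i q)) from rfl, ← map_mul, ← hb, ← map_add]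
    congr 1; ring, fun _ => rfl⟩

theorem pol_mem (i : Fin 2) {p : Polynomial V} (hp : Polynomial.C ϖ ∣ p) :
    pol V ϖ i p ∈ Ideal.span {co V ϖ i} := by
  obtain ⟨q, rfl⟩ := hp
  rw [map_mul, show pol V ϖ i (Polynomial.C ϖ) = algebraMap V (AA V ϖ) ϖ by simp [pol, iot]; rfl, ← co_mul V ϖ i,
    mul_assoc]
  exact Ideal.mul_mem_right _ _ (Ideal.subset_span rfl)

/-- The derivation `x d/dx - y d/dy`, as a map to dual numbers. -/
def phiA : AA V ϖ →+* (AA V ϖ)[ε] :=
  Ideal.Quotient.lift _ (MvPolynomial.eval₂Hom ((TrivSqZeroExt.inlHom (AA V ϖ) (AA V ϖ)).comp (algebraMap V (AA V ϖ)))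
      fun l => inl (co V ϖ l) + inr ((if l = 0 then 1 else -1) * co V ϖ l)) fun p hp => by
    obtain ⟨q, rfl⟩ := Ideal.mem_span_singleton.mp hp
    rw [map_mul]
    refine mul_eq_zero_of_left ?_ _
    have h := co_mul V ϖ 0
    rw [show Fin.rev (0 : Fin 2) = 1 from rfl] at h
    show MvPolynomial.eval₂Hom _ _ (MvPolynomial.X 0 * MvPolynomial.X 1 - MvPolynomial.C ϖ) = 0
    rw [map_sub, map_mul, MvPolynomial.eval₂Hom_X', MvPolynomial.eval₂Hom_X', MvPolynomial.eval₂Hom_C]
    ext
    · simp [h]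
    · simp [DualNumber.snd_mul]
      ring

theorem phiA_co (l : Fin 2) :
    phiA V ϖ (co V ϖ l) = inl (co V ϖ l) + inr ((if l = 0 then 1 else -1) * co V ϖ l) := by
  show MvPolynomial.eval₂Hom _ _ (MvPolynomial.X l) = _
  rw [MvPolynomial.eval₂Hom_X']

theorem phiA_algebraMap (v : V) : phiA V ϖ (algebraMap V (AA V ϖ) v) = inl (algebraMap V (AA V ϖ) v) := by
  show MvPolynomial.eval₂Hom _ _ (MvPolynomial.C v) = _
  rw [MvPolynomial.eval₂Hom_C]
  rfl

theorem fst_phiA (a : AA V ϖ) : (phiA V ϖ a).fst = a := by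
  have h : (TrivSqZeroExt.fstHom (AA V ϖ) (AA V ϖ) (AA V ϖ)).toRingHom.comp (phiA V ϖ) = RingHom.id _ := by
    refine Ideal.Quotient.ringHom_ext (MvPolynomial.ringHom_ext (fun v => ?_) fun l => ?_)
    · show (phiA V ϖ (algebraMap V (AA V ϖ) v)).fst = _
      rw [phiA_algebraMap]; rfl
    · show (phiA V ϖ (co V ϖ l)).fst = _
      rw [phiA_co]; split_ifs <;> simp [co]
  exact RingHom.congr_fun h a

/-- The sign of the derivation on the branch `i`. -/
def sgn {S : Type*} [Ring S] (i : Fin 2) : S := if i.rev = 0 then 1 else -1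

theorem br_snd_phiA (hϖ : Irreducible ϖ) (i : Fin 2) (a : AA V ϖ) :
    br V ϖ hϖ i (phiA V ϖ a).snd = sgn i * Polynomial.X * Polynomial.derivative (br V ϖ hϖ i a) := by
  let T : (Polynomial kk)[ε] := inl Polynomial.X + inr (sgn i * Polynomial.X)
  have h : (dmap (br V ϖ hϖ i)).comp (phiA V ϖ) = (Polynomial.aeval T).toRingHom.comp (br V ϖ hϖ i) := by
    refine Ideal.Quotient.ringHom_ext (MvPolynomial.ringHom_ext (fun v => ?_) fun l => ?_)
    · show dmap (br V ϖ hϖ i) (phiA V ϖ (algebraMap V (AA V ϖ) v)) = Polynomial.aeval T (br V ϖ hϖ i (Ideal.Quotient.mk _ (MvPolynomial.C v)))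
      rw [phiA_algebraMap, br_mk, show algebraMap V (AA V ϖ) v = Ideal.Quotient.mk _ (MvPolynomial.C v) from rfl,
        show ev V i (MvPolynomial.C v) = Polynomial.C v from MvPolynomial.algHom_C _ _, Polynomial.map_C,
        Polynomial.aeval_C, TrivSqZeroExt.algebraMap_eq_inl']
      ext <;> simp [br_mk, ev]
    · show dmap (br V ϖ hϖ i) (phiA V ϖ (co V ϖ l)) = Polynomial.aeval T (br V ϖ hϖ i (Ideal.Quotient.mk _ (MvPolynomial.X l)))
      rw [phiA_co]
      fin_cases i <;> fin_cases l <;> ext <;> simp [co, br_mk, ev, T, sgn]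
  have h1 := congrArg TrivSqZeroExt.snd (RingHom.congr_fun h a)
  simp only [RingHom.coe_comp, Function.comp_apply, snd_dmap, AlgHom.toRingHom_eq_coe, RingHom.coe_coe] at h1
  rw [h1, show T = inl Polynomial.X + inr (sgn i * Polynomial.X) from rfl,
    Polynomial.aeval_add_of_sq_eq_zero _ _ _ (by rw [pow_two, TrivSqZeroExt.inr_mul_inr])]
  have hin : ∀ p : Polynomial kk, Polynomial.aeval (inl Polynomial.X : (Polynomial kk)[ε]) p = inl p := by
    intro p
    have h2 : (Polynomial.aeval (inl Polynomial.X : (Polynomial kk)[ε])).toRingHom =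
        TrivSqZeroExt.inlHom (Polynomial kk) (Polynomial kk) :=
      Polynomial.ringHom_ext (fun v => by ext <;> simp [TrivSqZeroExt.algebraMap_eq_inl']) (by simp)
    exact RingHom.congr_fun h2 p
  rw [hin, hin]
  simp [mul_comm]

end Groth.Agent.Lib.Node62
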