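import Groth.Agent.Lib.Node62.Basic

/-!
# Étale functions near the node
-/

set_option autoImplicit false
set_option linter.unusedSectionVars false

noncomputable section

universe u

open TrivSqZeroExt
open scoped DualNumber

namespace Groth.Agent.Lib.Node62

theorem D_eq_zero_of_wronskian {R Q : Type*} [CommRing R] [CommRing Q] [Algebra R Q] {Y F : Q}
    {W P : Polynomial R} (hF : F * Polynomial.aeval Y W = Polynomial.aeval Y P) (hu : IsUnit (Polynomial.aeval Y W))
    (hzero : Polynomial.aeval Y (Polynomial.derivative P * W - P * Polynomial.derivative W) = 0) :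
    KaehlerDifferential.D R Q F = 0 := by
  have hDP := Derivation.map_aeval (KaehlerDifferential.D R Q) P Y
  rw [← hF, Derivation.leibniz, Derivation.map_aeval (KaehlerDifferential.D R Q) W Y] at hDP
  rw [map_sub, map_mul, map_mul, ← hF] at hzero
  have h6 := congrArg (Polynomial.aeval Y W • ·) hDP
  simp only [smul_add, smul_smul] at h6
  refine (hu.mul hu).smul_eq_zero.mp ?_
  rw [← sub_eq_zero] at h6
  have h7 : (Polynomial.aeval Y (Polynomial.derivative P) * Polynomial.aeval Y W -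
      F * Polynomial.aeval Y W * Polynomial.aeval Y (Polynomial.derivative W)) • KaehlerDifferential.D R Q Y = 0 := by
    rw [hzero, zero_smul]
  rw [sub_smul] at h7
  rw [← h7, eq_sub_iff_add_eq, add_comm, mul_comm (Polynomial.aeval Y (Polynomial.derivative P))]
  rw [← sub_eq_zero, show F * Polynomial.aeval Y W * Polynomial.aeval Y (Polynomial.derivative W) =
    Polynomial.aeval Y W * (F * Polynomial.aeval Y (Polynomial.derivative W)) by ring]
  exact h6

variable (V : Type u) [CommRing V] [IsDomain V] [IsDiscreteValuationRing V] (ϖ : V) (hϖ : Irreducible ϖ)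
variable (h : AA V ϖ) (hh : h ∉ Ideal.span ({co V ϖ 0, co V ϖ 1} : Set (AA V ϖ)))

local notation "kk" => IsLocalRing.ResidueField V
local notation "BB" => Localization.Away h

/-- The coordinates near the node. -/
abbrev cB (i : Fin 2) : BB := algebraMap (AA V ϖ) BB (co V ϖ i)

include hh in
theorem coeff_zero_ne (i : Fin 2) : (br V ϖ hϖ i h).coeff 0 ≠ 0 := by
  intro h0
  obtain ⟨p, b, rfl, hb⟩ := exists_decomp V ϖ i h
  rw [hb hϖ, Polynomial.coeff_map] at h0
  rw [IsLocalRing.residue_eq_zero_iff, hϖ.maximalIdeal_eq, Ideal.mem_span_singleton] at h0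
  apply hh
  have hle : Ideal.span {co V ϖ i} ≤ Ideal.span ({co V ϖ 0, co V ϖ 1} : Set (AA V ϖ)) :=
    Ideal.span_mono (by fin_cases i <;> simp)
  have hlej : co V ϖ i.rev ∈ Ideal.span ({co V ϖ 0, co V ϖ 1} : Set (AA V ϖ)) :=
    Ideal.subset_span (by fin_cases i <;> simp)
  refine add_mem ?_ (hle (Ideal.mul_mem_right _ _ (Ideal.subset_span rfl)))
  rw [← Polynomial.X_mul_divX_add p, map_add, map_mul]
  refine add_mem (Ideal.mul_mem_right _ _ ?_) (hle (pol_mem V ϖ i (map_dvd Polynomial.C h0)))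
  rw [show pol V ϖ i Polynomial.X = co V ϖ i.rev by simp [pol, iot, co]]
  exact hlej

include hh in
theorem br_ne_zero (i : Fin 2) : br V ϖ hϖ i h ≠ 0 := fun e =>
  coeff_zero_ne V ϖ hϖ h hh i (by rw [e, Polynomial.coeff_zero])

/-- The branch `i` near the node. -/
abbrev LL (i : Fin 2) : Type u := Localization.Away (br V ϖ hϖ i h)

/-- Restriction to the branch. -/
def psi (i : Fin 2) : BB →+* LL V ϖ hϖ h i :=
  IsLocalization.Away.lift h (g := (algebraMap (Polynomial kk) (LL V ϖ hϖ h i)).comp (br V ϖ hϖ i))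
    (show IsUnit (algebraMap (Polynomial kk) (LL V ϖ hϖ h i) (br V ϖ hϖ i h)) from IsLocalization.Away.algebraMap_isUnit _)

theorem psi_algebraMap (i : Fin 2) (a : AA V ϖ) :
    psi V ϖ hϖ h i (algebraMap (AA V ϖ) BB a) = algebraMap (Polynomial kk) _ (br V ϖ hϖ i a) :=
  IsLocalization.Away.lift_eq (g := (algebraMap (Polynomial kk) (LL V ϖ hϖ h i)).comp (br V ϖ hϖ i)) h
    (show IsUnit (algebraMap (Polynomial kk) (LL V ϖ hϖ h i) (br V ϖ hϖ i h)) from IsLocalization.Away.algebraMap_isUnit _) a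

include hh in
theorem algebraMap_injective_LL (i : Fin 2) :
    Function.Injective (algebraMap (Polynomial kk) (LL V ϖ hϖ h i)) :=
  IsLocalization.injective (LL V ϖ hϖ h i) (powers_le_nonZeroDivisors_of_noZeroDivisors (br_ne_zero V ϖ hϖ h hh i))

theorem psi_surjective (i : Fin 2) : Function.Surjective (psi V ϖ hϖ h i) := by
  intro y
  obtain ⟨n, q, hq⟩ := IsLocalization.Away.surj (br V ϖ hϖ i h) y
  obtain ⟨a, rfl⟩ := br_surjective V ϖ hϖ i q
  let u : BBˣ := (IsLocalization.Away.algebraMap_isUnit (S := BB) h).unit ^ n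
  refine ⟨algebraMap _ BB a * ↑u⁻¹, ?_⟩
  have hu : psi V ϖ hϖ h i (u : BB) = algebraMap (Polynomial kk) (LL V ϖ hϖ h i) (br V ϖ hϖ i h) ^ n := by
    simp only [u, Units.val_pow_eq_pow_val, IsUnit.unit_spec, map_pow, psi_algebraMap]
  rw [map_mul, psi_algebraMap, ← hq, ← hu, mul_assoc, ← map_mul, Units.mul_inv, map_one, mul_one]

include hh in
theorem ker_psi (i : Fin 2) (b : BB) : psi V ϖ hϖ h i b = 0 ↔ b ∈ Ideal.span {cB V ϖ h i} := by
  constructor
  · intro hb
    obtain ⟨n, a, ha⟩ := IsLocalization.Away.surj h b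
    have h1 : algebraMap (Polynomial kk) (LL V ϖ hϖ h i) (br V ϖ hϖ i a) = 0 := by
      rw [← psi_algebraMap V ϖ hϖ h, ← ha, map_mul, hb, zero_mul]
    have h2 : br V ϖ hϖ i a = 0 := algebraMap_injective_LL V ϖ hϖ h hh i (by rw [h1, map_zero])
    obtain ⟨p, a', rfl, hp⟩ := exists_decomp V ϖ i a
    rw [hp hϖ] at h2
    have hm : pol V ϖ i p + co V ϖ i * a' ∈ Ideal.span {co V ϖ i} :=
      add_mem (pol_mem V ϖ i (map_residue_eq_zero V ϖ hϖ h2)) (Ideal.mul_mem_right _ _ (Ideal.subset_span rfl))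
    obtain ⟨e, he⟩ := Ideal.mem_span_singleton.mp hm
    rw [he, map_mul] at ha
    refine (Ideal.mul_unit_mem_iff_mem (Ideal.span {cB V ϖ h i})
      ((IsLocalization.Away.algebraMap_isUnit (S := BB) h).pow n)).mp ?_
    rw [ha]
    exact Ideal.mul_mem_right _ _ (Ideal.subset_span rfl)
  · intro hb
    obtain ⟨e, rfl⟩ := Ideal.mem_span_singleton.mp hb
    rw [map_mul, psi_algebraMap, br_mk]
    simp [ev]

include hϖ in
theorem cB_regular (i : Fin 2) (b : BB) (hb : cB V ϖ h i * b = 0) : b = 0 := by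
  obtain ⟨n, a, ha⟩ := IsLocalization.Away.surj h b
  have h1 : algebraMap (AA V ϖ) BB (co V ϖ i * a) = 0 := by
    rw [map_mul, ← ha, ← mul_assoc, hb, zero_mul]
  obtain ⟨⟨_, k, rfl⟩, hk⟩ := (IsLocalization.map_eq_zero_iff (Submonoid.powers h) BB _).mp h1
  have h2 : h ^ k * a = 0 := co_regular V ϖ hϖ.ne_zero i _ (by rw [← hk]; ring)
  have h3 : algebraMap (AA V ϖ) BB a = 0 := by
    have := congrArg (algebraMap (AA V ϖ) BB) h2
    rw [map_mul, map_zero, map_pow] at this
    exact ((IsLocalization.Away.algebraMap_isUnit (S := BB) h).pow k).mul_right_eq_zero.mp this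
  exact ((IsLocalization.Away.algebraMap_isUnit (S := BB) h).pow n).mul_left_eq_zero.mp (by rw [ha, h3])

/-- The derivation near the node. -/
def Phi : BB →+* BB[ε] :=
  IsLocalization.Away.lift h (g := (dmap (algebraMap (AA V ϖ) BB)).comp (phiA V ϖ))
    (isUnit_iff_isUnit_fst.mpr (by
      rw [RingHom.comp_apply, fst_dmap, fst_phiA]
      exact IsLocalization.Away.algebraMap_isUnit h))

theorem Phi_algebraMap (a : AA V ϖ) :
    Phi V ϖ h (algebraMap (AA V ϖ) BB a) = dmap (algebraMap (AA V ϖ) BB) (phiA V ϖ a) :=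
  IsLocalization.Away.lift_eq (g := (dmap (algebraMap (AA V ϖ) BB)).comp (phiA V ϖ)) h _ a

theorem fst_Phi (b : BB) : (Phi V ϖ h b).fst = b := by
  have he : (TrivSqZeroExt.fstHom BB BB BB).toRingHom.comp (Phi V ϖ h) = RingHom.id _ := by
    refine IsLocalization.ringHom_ext (Submonoid.powers h) (RingHom.ext fun a => ?_)
    show (Phi V ϖ h (algebraMap (AA V ϖ) BB a)).fst = algebraMap (AA V ϖ) BB a
    rw [Phi_algebraMap, fst_dmap, fst_phiA]
  exact RingHom.congr_fun he b

/-- The value of the derivation. -/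
def theta (b : BB) : BB := (Phi V ϖ h b).snd

theorem psi_theta_algebraMap (i : Fin 2) (a : AA V ϖ) :
    psi V ϖ hϖ h i (theta V ϖ h (algebraMap (AA V ϖ) BB a)) =
      algebraMap (Polynomial kk) _ (sgn i * Polynomial.X * Polynomial.derivative (br V ϖ hϖ i a)) := by
  rw [theta, Phi_algebraMap, snd_dmap, psi_algebraMap, br_snd_phiA]

theorem theta_eq (i : Fin 2) (f : BB) :
    ∃ (n : ℕ) (a : AA V ϖ), f * algebraMap (AA V ϖ) BB h ^ n = algebraMap (AA V ϖ) BB a ∧
      psi V ϖ hϖ h i f * algebraMap (Polynomial kk) _ (br V ϖ hϖ i (h ^ n)) =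
        algebraMap (Polynomial kk) _ (br V ϖ hϖ i a) ∧
      psi V ϖ hϖ h i (theta V ϖ h f) * algebraMap (Polynomial kk) _ (br V ϖ hϖ i (h ^ n)) +
        psi V ϖ hϖ h i f * algebraMap (Polynomial kk) _
          (sgn i * Polynomial.X * Polynomial.derivative (br V ϖ hϖ i (h ^ n))) =
        algebraMap (Polynomial kk) _ (sgn i * Polynomial.X * Polynomial.derivative (br V ϖ hϖ i a)) := by
  obtain ⟨n, a, ha⟩ := IsLocalization.Away.surj h f
  have ha' : f * algebraMap (AA V ϖ) BB (h ^ n) = algebraMap (AA V ϖ) BB a := by rw [map_pow]; exact ha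
  refine ⟨n, a, ha, ?_, ?_⟩
  · rw [← psi_algebraMap V ϖ hϖ h, ← psi_algebraMap V ϖ hϖ h, ← map_mul, ha']
  · have h1 : theta V ϖ h (algebraMap (AA V ϖ) BB a) =
        f * theta V ϖ h (algebraMap (AA V ϖ) BB (h ^ n)) + theta V ϖ h f * algebraMap (AA V ϖ) BB (h ^ n) := by
      rw [← ha', theta, theta, theta, map_mul, DualNumber.snd_mul, fst_Phi, fst_Phi]
    have h2 := congrArg (psi V ϖ hϖ h i) h1
    rw [map_add, map_mul, map_mul, psi_theta_algebraMap, psi_theta_algebraMap, psi_algebraMap] at h2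
    rw [h2]; ring

include hϖ hh in
theorem not_isUnit_theta (f : BB) : ¬ IsUnit (theta V ϖ h f) := by
  intro hu
  obtain ⟨n, a, -, -, h2⟩ := theta_eq V ϖ hϖ h 0 f
  let e : LL V ϖ hϖ h 0 →+* kk :=
    IsLocalization.Away.lift (br V ϖ hϖ 0 h) (g := Polynomial.constantCoeff)
      (isUnit_iff_ne_zero.mpr (coeff_zero_ne V ϖ hϖ h hh 0))
  have he : ∀ q, e (algebraMap (Polynomial kk) _ q) = q.coeff 0 := fun q =>
    IsLocalization.Away.lift_eq (g := Polynomial.constantCoeff) (br V ϖ hϖ 0 h) _ q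
  have h3 := congrArg e h2
  simp only [map_add, map_mul, he, Polynomial.mul_coeff_zero, Polynomial.coeff_X_zero, mul_zero, zero_mul,
    add_zero, map_pow] at h3
  have h4 : e (psi V ϖ hϖ h 0 (theta V ϖ h f)) ≠ 0 := ((hu.map _).map e).ne_zero
  have h5 : (br V ϖ hϖ 0 h).coeff 0 ^ n ≠ 0 := pow_ne_zero _ (coeff_zero_ne V ϖ hϖ h hh 0)
  exact mul_ne_zero h4 h5 h3

include hϖ hh in
theorem exists_dvd_of_dvd_pow (z : BB) (hz : ¬ IsUnit z) (n : ℕ) (g : BB)
    (hg : z * g = algebraMap V BB ϖ ^ n) : ∃ i, z ∈ Ideal.span {cB V ϖ h i} := by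
  classical
  have hmul : cB V ϖ h 0 * cB V ϖ h 1 = algebraMap V BB ϖ := by
    rw [← map_mul, show co V ϖ 0 * co V ϖ 1 = co V ϖ 0 * co V ϖ (Fin.rev 0) from rfl, co_mul,
      ← IsScalarTower.algebraMap_apply]
  rw [← hmul, mul_pow] at hg
  by_contra hno
  simp only [not_exists] at hno
  have hp : ∀ i x, z * x ∈ Ideal.span {cB V ϖ h i} → x ∈ Ideal.span {cB V ϖ h i} := by
    intro i x hx
    rw [← ker_psi V ϖ hϖ h hh, map_mul] at hx
    haveI : IsDomain (LL V ϖ hϖ h i) := IsLocalization.isDomain_localization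
      (powers_le_nonZeroDivisors_of_noZeroDivisors (br_ne_zero V ϖ hϖ h hh i))
    rw [← ker_psi V ϖ hϖ h hh]
    exact (mul_eq_zero.mp hx).resolve_left fun e => hno i ((ker_psi V ϖ hϖ h hh i z).mp e)
  have key : ∀ p q : ℕ, ∀ g, z * g = cB V ϖ h 0 ^ p * cB V ϖ h 1 ^ q → IsUnit z := by
    intro p
    induction p with
    | zero =>
      intro q
      induction q with
      | zero => intro g hg; exact IsUnit.of_mul_eq_one g (by simpa using hg)
      | succ q ihq =>
        intro g hg
        obtain ⟨g', rfl⟩ := Ideal.mem_span_singleton.mp (hp 1 g (by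
          rw [hg, pow_succ', mul_left_comm]; exact Ideal.mul_mem_right _ _ (Ideal.subset_span rfl)))
        refine ihq g' (sub_eq_zero.mp (cB_regular V ϖ hϖ h 1 _ ?_))
        linear_combination hg
    | succ p ihp =>
      intro q g hg
      obtain ⟨g', rfl⟩ := Ideal.mem_span_singleton.mp (hp 0 g (by
        rw [hg, pow_succ', mul_assoc]; exact Ideal.mul_mem_right _ _ (Ideal.subset_span rfl)))
      refine ihp q g' (sub_eq_zero.mp (cB_regular V ϖ hϖ h 0 _ ?_))
      linear_combination hg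
  exact hz (key n n g hg)

theorem dvd_pow_of_etale (f : BB)
    (hf : ((algebraMap BB (Localization.Away (algebraMap V BB ϖ))).comp
      (Polynomial.aeval f : Polynomial V →ₐ[V] BB).toRingHom).Etale) :
    ∃ n g, theta V ϖ h f * g = algebraMap V BB ϖ ^ n := by
  let C := Localization.Away (algebraMap V BB ϖ)
  suffices hu : IsUnit (algebraMap BB C (theta V ϖ h f)) by
    obtain ⟨n, g, hg⟩ := (IsLocalization.Away.algebraMap_isUnit_iff (algebraMap V BB ϖ)).mp hu
    exact ⟨n, g, hg.symm⟩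
  by_contra hnu
  obtain ⟨𝔫, h𝔫, hmem⟩ := exists_max_ideal_of_mem_nonunits hnu
  letI : Field (C ⧸ 𝔫) := Ideal.Quotient.field 𝔫
  letI : Algebra (Polynomial V) C := ((algebraMap BB C).comp (Polynomial.aeval f : Polynomial V →ₐ[V] BB).toRingHom).toAlgebra
  haveI : Algebra.Etale (Polynomial V) C := hf
  haveI : Algebra.FormallyUnramified (Polynomial V) C := inferInstance
  have hθv : ∀ v : V, theta V ϖ h (algebraMap V BB v) = 0 := fun v => by
    rw [theta, IsScalarTower.algebraMap_apply V (AA V ϖ) BB, Phi_algebraMap, phiA_algebraMap, snd_dmap]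
    simp
  let Φ' : C →+* C[ε] := IsLocalization.Away.lift (algebraMap V BB ϖ)
    (g := (dmap (algebraMap BB C)).comp (Phi V ϖ h)) (isUnit_iff_isUnit_fst.mpr (by
      rw [RingHom.comp_apply, fst_dmap, fst_Phi]
      exact IsLocalization.Away.algebraMap_isUnit _))
  have hΦ' : ∀ b, Φ' (algebraMap BB C b) = dmap (algebraMap BB C) (Phi V ϖ h b) := fun b =>
    IsLocalization.Away.lift_eq (g := (dmap (algebraMap BB C)).comp (Phi V ϖ h)) (algebraMap V BB ϖ) _ b
  have hfst : ∀ c, (Φ' c).fst = c := by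
    have he : (TrivSqZeroExt.fstHom C C C).toRingHom.comp Φ' = RingHom.id _ := by
      refine IsLocalization.ringHom_ext (Submonoid.powers (algebraMap V BB ϖ)) (RingHom.ext fun b => ?_)
      show (Φ' (algebraMap BB C b)).fst = algebraMap BB C b
      rw [hΦ', fst_dmap, fst_Phi]
    exact fun c => RingHom.congr_fun he c
  let G₁ : C →+* (C ⧸ 𝔫)[ε] := (dmap (Ideal.Quotient.mk 𝔫)).comp Φ'
  let G₂ : C →+* (C ⧸ 𝔫)[ε] := (TrivSqZeroExt.inlHom (C ⧸ 𝔫) (C ⧸ 𝔫)).comp (Ideal.Quotient.mk 𝔫)
  letI : Algebra (Polynomial V) (C ⧸ 𝔫)[ε] := (G₂.comp (algebraMap (Polynomial V) C)).toAlgebra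
  have hG : G₁.comp (algebraMap (Polynomial V) C) = G₂.comp (algebraMap (Polynomial V) C) := by
    refine Polynomial.ringHom_ext (fun v => ?_) ?_
    · show dmap (Ideal.Quotient.mk 𝔫) (Φ' (algebraMap BB C (Polynomial.aeval f (Polynomial.C v)))) =
        inl (Ideal.Quotient.mk 𝔫 (algebraMap BB C (Polynomial.aeval f (Polynomial.C v))))
      rw [Polynomial.aeval_C]
      ext
      · simp [hfst]
      · rw [snd_dmap, hΦ', snd_dmap, show (Phi V ϖ h (algebraMap V BB v)).snd = 0 from hθv v]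
        simp
    · show dmap (Ideal.Quotient.mk 𝔫) (Φ' (algebraMap BB C (Polynomial.aeval f Polynomial.X))) =
        inl (Ideal.Quotient.mk 𝔫 (algebraMap BB C (Polynomial.aeval f Polynomial.X)))
      rw [Polynomial.aeval_X]
      ext
      · simp [hfst]
      · rw [snd_dmap, hΦ', snd_dmap, snd_inl]
        exact Ideal.Quotient.eq_zero_iff_mem.mpr hmem
  let g₁ : C →ₐ[Polynomial V] (C ⧸ 𝔫)[ε] := { G₁ with commutes' := fun p => RingHom.congr_fun hG p }
  let g₂ : C →ₐ[Polynomial V] (C ⧸ 𝔫)[ε] := { G₂ with commutes' := fun _ => rfl }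
  have heq : g₁ = g₂ := by
    refine Algebra.FormallyUnramified.ext' (TrivSqZeroExt.fstHom (C ⧸ 𝔫) (C ⧸ 𝔫) (C ⧸ 𝔫)).toRingHom ⟨2, ?_⟩ g₁ g₂ fun c => ?_
    · rw [pow_two]
      refine le_bot_iff.mp (Ideal.mul_le.mpr fun x hx y hy => ?_)
      have hx' : x.fst = 0 := hx
      have hy' : y.fst = 0 := hy
      show x * y = 0
      ext <;> simp [DualNumber.snd_mul, hx', hy']
    · show (dmap (Ideal.Quotient.mk 𝔫) (Φ' c)).fst = (inl (Ideal.Quotient.mk 𝔫 c) : (C ⧸ 𝔫)[ε]).fst
      rw [fst_dmap, hfst, fst_inl]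
  have hxu : IsUnit (algebraMap BB C (cB V ϖ h 0)) := by
    refine isUnit_of_mul_isUnit_left (y := algebraMap BB C (cB V ϖ h (Fin.rev 0))) ?_
    rw [← map_mul, ← map_mul, co_mul, ← IsScalarTower.algebraMap_apply]
    exact IsLocalization.Away.algebraMap_isUnit (algebraMap V BB ϖ)
  have hlast := congrArg TrivSqZeroExt.snd (AlgHom.congr_fun heq (algebraMap BB C (cB V ϖ h 0)))
  have hl : (g₁ (algebraMap BB C (cB V ϖ h 0))).snd = Ideal.Quotient.mk 𝔫 (algebraMap BB C (cB V ϖ h 0)) := by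
    show (dmap (Ideal.Quotient.mk 𝔫) (Φ' (algebraMap BB C (cB V ϖ h 0)))).snd = _
    rw [snd_dmap, hΦ', snd_dmap, Phi_algebraMap, snd_dmap, phiA_co]
    simp
  rw [hl] at hlast
  exact (hxu.map (Ideal.Quotient.mk 𝔫)).ne_zero hlast

include hϖ hh in
theorem D_eq_zero (i : Fin 2) (f : BB) (hz : theta V ϖ h f ∈ Ideal.span {cB V ϖ h i}) :
    KaehlerDifferential.D V (BB ⧸ Ideal.span {cB V ϖ h i}) (Ideal.Quotient.mk _ f) = 0 ∧
    (CharZero kk → ¬ (Polynomial.aeval f : Polynomial V →ₐ[V] BB).toRingHom.QuasiFinite) := by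
  obtain ⟨n, a, ha, h1, h2⟩ := theta_eq V ϖ hϖ h i f
  rw [(ker_psi V ϖ hϖ h hh i _).mpr hz, zero_mul, zero_add] at h2
  obtain ⟨W, bW, hW, hWb⟩ := exists_decomp V ϖ i (h ^ n)
  obtain ⟨P, bP, hP, hPb⟩ := exists_decomp V ϖ i a
  rw [hWb hϖ, hPb hϖ] at h1 h2
  set w := W.map (IsLocalRing.residue V) with hwdef
  set p := P.map (IsLocalRing.residue V) with hpdef
  have h3 : sgn i * Polynomial.X * (p * Polynomial.derivative w) =
      sgn i * Polynomial.X * (Polynomial.derivative p * w) := by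
    apply algebraMap_injective_LL V ϖ hϖ h hh i
    calc algebraMap (Polynomial kk) (LL V ϖ hϖ h i) (sgn i * Polynomial.X * (p * Polynomial.derivative w))
        = algebraMap _ _ p * algebraMap _ _ (sgn i * Polynomial.X * Polynomial.derivative w) := by
          rw [← map_mul]; congr 1; ring
      _ = psi V ϖ hϖ h i f * algebraMap _ _ (sgn i * Polynomial.X * Polynomial.derivative w) * algebraMap _ _ w := by
          rw [← h1]; ring
      _ = _ := by rw [h2, ← map_mul]; congr 1; ring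
  have hne : (sgn i * Polynomial.X : Polynomial kk) ≠ 0 := by
    refine mul_ne_zero ?_ Polynomial.X_ne_zero
    unfold sgn
    split_ifs <;> simp
  have h4 : Polynomial.derivative p * w = p * Polynomial.derivative w := (mul_left_cancel₀ hne h3).symm
  constructor
  · let Q := BB ⧸ Ideal.span {cB V ϖ h i}
    let τ : Polynomial V →ₐ[V] Q := Polynomial.aeval (Ideal.Quotient.mk _ (algebraMap (AA V ϖ) BB (co V ϖ i.rev)))
    have hτ : ∀ q, τ q = Ideal.Quotient.mk _ (algebraMap (AA V ϖ) BB (pol V ϖ i q)) := by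
      intro q
      have he : τ.toRingHom = (Ideal.Quotient.mk (Ideal.span {cB V ϖ h i})).comp
          ((algebraMap (AA V ϖ) BB).comp (pol V ϖ i)) := by
        refine Polynomial.ringHom_ext (fun v => ?_) ?_
        · show τ (Polynomial.C v) = Ideal.Quotient.mk _ (algebraMap (AA V ϖ) BB (pol V ϖ i (Polynomial.C v)))
          rw [show τ (Polynomial.C v) = algebraMap V Q v from Polynomial.aeval_C _ _,
            show pol V ϖ i (Polynomial.C v) = algebraMap V (AA V ϖ) v by simp [pol, iot]; rfl,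
            ← IsScalarTower.algebraMap_apply]
          rfl
        · simp [τ, pol, iot, co]
      exact RingHom.congr_fun he q
    have hred : ∀ (c : AA V ϖ) (q : Polynomial V) (b : AA V ϖ), c = pol V ϖ i q + co V ϖ i * b →
        Ideal.Quotient.mk (Ideal.span {cB V ϖ h i}) (algebraMap (AA V ϖ) BB c) = τ q := by
      intro c q b hc
      rw [hτ, hc, map_add, map_mul, map_add, map_mul, Ideal.Quotient.mk_singleton_self, zero_mul, add_zero]
    have hF : Ideal.Quotient.mk (Ideal.span {cB V ϖ h i}) f * τ W = τ P := by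
      rw [← hred _ W bW hW, ← hred _ P bP hP, ← ha, map_pow, map_mul]
    have hu : IsUnit (τ W) := by
      rw [← hred _ W bW hW, map_pow]
      exact (((IsLocalization.Away.algebraMap_isUnit (S := BB) h).pow n).map _)
    have hzero : τ (Polynomial.derivative P * W - P * Polynomial.derivative W) = 0 := by
      rw [hτ, Ideal.Quotient.eq_zero_iff_mem]
      have hm : pol V ϖ i (Polynomial.derivative P * W - P * Polynomial.derivative W) ∈ Ideal.span {co V ϖ i} := by
        refine pol_mem V ϖ i (map_residue_eq_zero V ϖ hϖ ?_)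
        rw [Polynomial.map_sub, Polynomial.map_mul, Polynomial.map_mul, ← Polynomial.derivative_map,
          ← Polynomial.derivative_map, h4, sub_self]
      have := Ideal.mem_map_of_mem (algebraMap (AA V ϖ) BB) hm
      rwa [Ideal.map_span, Set.image_singleton] at this
    exact D_eq_zero_of_wronskian (Y := Ideal.Quotient.mk _ (algebraMap (AA V ϖ) BB (co V ϖ i.rev))) hF hu hzero
  · intro hcz hqf
    have hw0 : w ≠ 0 := by
      rw [← hWb hϖ, map_pow]
      exact pow_ne_zero _ (br_ne_zero V ϖ hϖ h hh i)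
    obtain ⟨c, hc⟩ := exists_eq_C_mul p w hw0 h4
    haveI : IsDomain (LL V ϖ hϖ h i) := IsLocalization.isDomain_localization
      (powers_le_nonZeroDivisors_of_noZeroDivisors (br_ne_zero V ϖ hϖ h hh i))
    have hf' : psi V ϖ hϖ h i f = algebraMap (Polynomial kk) _ (Polynomial.C c) := by
      have hw1 : algebraMap (Polynomial kk) (LL V ϖ hϖ h i) w ≠ 0 := fun e =>
        hw0 (algebraMap_injective_LL V ϖ hϖ h hh i (by rw [e, map_zero]))
      refine mul_right_cancel₀ hw1 ?_
      rw [h1, hc, map_mul]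
    let toL : kk →+* LL V ϖ hϖ h i := (algebraMap (Polynomial kk) _).comp Polynomial.C
    let q : Polynomial V →+* kk := Polynomial.eval₂RingHom (IsLocalRing.residue V) c
    have hcomp : (psi V ϖ hϖ h i).comp (Polynomial.aeval f : Polynomial V →ₐ[V] BB).toRingHom = toL.comp q := by
      refine Polynomial.ringHom_ext (fun v => ?_) ?_
      · show psi V ϖ hϖ h i (Polynomial.aeval f (Polynomial.C v)) = toL (q (Polynomial.C v))
        rw [Polynomial.aeval_C, IsScalarTower.algebraMap_apply V (AA V ϖ) BB, psi_algebraMap,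
          show br V ϖ hϖ i (algebraMap V (AA V ϖ) v) = Polynomial.C (IsLocalRing.residue V v) from by
            rw [show algebraMap V (AA V ϖ) v = Ideal.Quotient.mk _ (MvPolynomial.C v) from rfl, br_mk,
              show ev V i (MvPolynomial.C v) = Polynomial.C v from MvPolynomial.algHom_C _ _, Polynomial.map_C]]
        simp [toL, q]
      · show psi V ϖ hϖ h i (Polynomial.aeval f Polynomial.X) = toL (q Polynomial.X)
        simp [toL, q, hf']
    have h6 : toL.QuasiFinite := by
      refine RingHom.QuasiFinite.of_comp (g := q) ?_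
      rw [← hcomp]
      exact RingHom.QuasiFinite.comp (RingHom.QuasiFinite.of_finite (RingHom.Finite.of_surjective _ (psi_surjective V ϖ hϖ h i))) hqf
    have h7 : toL = algebraMap kk (LL V ϖ hϖ h i) := by
      rw [IsScalarTower.algebraMap_eq kk (Polynomial kk) (LL V ϖ hϖ h i), Polynomial.algebraMap_eq]
    rw [h7, RingHom.quasiFinite_algebraMap] at h6
    haveI : Module.Finite kk (LL V ϖ hϖ h i) := Module.Finite.of_quasiFinite
    exact Polynomial.not_finite (Module.Finite.of_injective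
      (IsScalarTower.toAlgHom kk (Polynomial kk) (LL V ϖ hϖ h i)).toLinearMap
      (algebraMap_injective_LL V ϖ hϖ h hh i))

end Groth.Agent.Lib.Node62
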